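import Cfsg.Agent.H196.SRX.Final

/-!
# TEAM SR (S4971): the row `F4` (helper689, from helper196's and helper374's theorem)
-/

set_option autoImplicit false

namespace Cfsg.Agent.H689.SR

open Cfsg Cfsg.Lie Cfsg.Agent.H721.SR

theorem nrel_isoF4 {S : Type*} [Group S] (h : IsoF4 S) : NRel S := by
  obtain ⟨F, _, _, ⟨e⟩⟩ := h
  exact (Cfsg.Agent.H196.SRX.nrel_f4 (F := F)).congr e.symm

/-- **the row `F4`** -/
theorem rr_f4 {S : Type*} [Group S] (h : IsoF4 S) : RR S := RR.of_nrel (nrel_isoF4 h)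

end Cfsg.Agent.H689.SR
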